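import Cfsg.Agent.TAB.F22.FxB_m3
import Cfsg.Agent.H651.HNF.Final
import Cfsg.Agent.S1701
import Cfsg.Agent.S2082
import Cfsg.Agent.H793.Cyc.FiveHN
import Cfsg.Agent.FastGrp
import Cfsg.Agent.Prune
set_option linter.all false
prune_inst 0x7f00000000000000000000000000000000000000000000000000000000000000000000000000000000000000000000000000000000000000000000000000000000000000000000000000000000000000003fffffffffffffffffffffffffffbeffbdffffffff
open scoped Cfsg.Agent.FastGrp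

-- part: SB/SporD/Ctx
section
/-!
# S5765, groups with `|Out K| ≤ 2`: the situation inside `K` (helper26)

`R = S ∩ K`.  `Inv R X` : `X` is invariant under the automorphisms of `K` which stabilise `R`.  `Ctx R` : `R` is
solvable and contains the normalizers of the non-trivial invariant subgroups.  `row_of_ctx` : the translation.
-/

set_option autoImplicit false

namespace Cfsg.Agent.SB.SporD

open Subgroup Cfsg Cfsg.Agent.H786.FC Cfsg.Agent.SB.Mon Cfsg.Agent.SB.Spor

variable {K : Type*} [Group K] {R X Y : Subgroup K}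

/-- `X` is invariant under all automorphisms of `K` which stabilise `R` -/
def Inv (R X : Subgroup K) : Prop := ∀ α : MulAut K, (∀ r ∈ R, α r ∈ R) → ∀ x ∈ X, α x ∈ X

/-- the situation -/
structure Ctx (R : Subgroup K) : Prop where
  sol : Group.IsSolvable R
  ne : R ≠ ⊥
  norm : ∀ X : Subgroup K, X ≠ ⊥ → X ≤ R → Inv R X → ∀ g : K, (∀ x ∈ X, g * x * g⁻¹ ∈ X) → g ∈ R

/-- the target if the Fitting subgroup has odd order -/
def OddOK (R : Subgroup K) : Prop :=
  ∃ P : Finset K, (∀ v ∈ fit R, v ≠ 1 → ∃ s ∈ P, s ∈ zpowers v) ∧ ∑ c ∈ P, hc R c + 2 * Nat.card R ^ 2 < Nat.card K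

/-- the target in general -/
def TwoOK (R : Subgroup K) : Prop :=
  Four ⊤ R ∧ (∀ u : K, u ≠ 1 → 2 * hc R u ≤ Nat.card K) ∧ 49 * Nat.card R ≤ Nat.card K

theorem inv_self (R : Subgroup K) : Inv R R := fun _ h => h

theorem Inv.conj (h : Inv R X) : ∀ r ∈ R, ∀ x ∈ X, r * x * r⁻¹ ∈ X := fun r hr =>
  h (MulAut.conj r) fun _ hs => mul_mem (mul_mem hr hs) (inv_mem hr)

theorem Inv.inf (h : Inv R X) (h' : Inv R Y) : Inv R (X ⊓ Y) := fun α hα x hx => ⟨h α hα x hx.1, h' α hα x hx.2⟩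

/-- the subgroup generated by an invariant set -/
theorem inv_closure {s : Set K} (h : ∀ α : MulAut K, (∀ r ∈ R, α r ∈ R) → ∀ x ∈ s, α x ∈ s) : Inv R (_root_.Subgroup.closure s) := by
  intro α hα
  have : closure s ≤ (closure s).comap α.toMonoidHom := (closure_le _).2 fun x hx => _root_.Subgroup.subset_closure (h α hα x hx)
  exact fun x hx => this hx

theorem Ctx.cent (h : Ctx R) (h0 : X ≠ ⊥) (hle : X ≤ R) (hX : Inv R X) {g : K} (hg : ∀ x ∈ X, g * x = x * g) :
    g ∈ R :=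
  h.norm X h0 hle hX g fun x hx => by rwa [hg x hx, mul_inv_cancel_right]

variable [Finite K]

theorem stab_inv {α : MulAut K} (hα : ∀ x ∈ R, α x ∈ R) : ∀ x ∈ R, α⁻¹ x ∈ R := by
  intro x hx
  have h1 : Function.Surjective fun y : R => (⟨α y, hα y y.2⟩ : R) :=
    Finite.surjective_of_injective fun a b h => Subtype.ext (α.injective (congrArg Subtype.val h))
  obtain ⟨y, hy⟩ := h1 ⟨x, hx⟩
  have h2 : α y = x := congrArg Subtype.val hy
  rw [← h2, MulAut.inv_apply_self]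
  exact y.2

theorem Inv.cz (h : Inv R X) : Inv R (centralizer (X : Set K)) := fun α hα g hg => mem_centralizer_iff.2 fun x hx => by
  have h1 := congrArg α (mem_centralizer_iff.1 hg _ (h α⁻¹ (stab_inv hα) x hx))
  simpa only [_root_.MulAut.inv_apply, _root_.map_mul, _root_.MulEquiv.apply_symm_apply] using h1

theorem Inv.fit (h : Inv R X) : Inv R (fit X) := by
  rintro α hα _ ⟨y, hy, rfl⟩
  let e : X ≃* X :=
    { toFun := fun a => ⟨α a, h α hα a a.2⟩
      invFun := fun a => ⟨α⁻¹ a, h α⁻¹ (stab_inv hα) a a.2⟩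
      left_inv := fun a => Subtype.ext (by simp)
      right_inv := fun a => Subtype.ext (by simp)
      map_mul' := fun a b => Subtype.ext (by simp) }
  exact ⟨e y, (Lib.Cores.map_equiv_fittingSubgroup e).le ⟨y, hy, rfl⟩, rfl⟩

theorem inv_fit (R : Subgroup K) : Inv R (fit R) := (inv_self R).fit

theorem inv_core (R : Subgroup K) {p : ℕ} (hp : p.Prime) : Inv R (core p R) := by
  have := Fact.mk hp
  intro α hα x hx
  obtain ⟨k, hk⟩ := core_pgroup (S := R) p ⟨x, hx⟩
  refine SporB.mem_core_pow (inv_fit R α hα x (core_le_fit p hx)) hp (k := k) ?_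
  rw [← map_pow, show x ^ p ^ k = 1 from congrArg Subtype.val hk, map_one]

/-- the elements `x` with `x ^ n = 1` of an abelian subgroup -/
def omg (X : Subgroup K) (hab : ∀ x ∈ X, ∀ y ∈ X, x * y = y * x) (n : ℕ) : Subgroup K where
  carrier := {x | x ∈ X ∧ x ^ n = 1}
  one_mem' := ⟨one_mem _, one_pow _⟩
  mul_mem' := fun {a b} ha hb =>
    ⟨mul_mem ha.1 hb.1, by rw [(show Commute a b from hab a ha.1 b hb.1).mul_pow, ha.2, hb.2, one_mul]⟩
  inv_mem' := fun {a} ha => ⟨inv_mem ha.1, by rw [inv_pow, ha.2, inv_one]⟩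

omit [Finite K] in
theorem mem_omg {hab : ∀ x ∈ X, ∀ y ∈ X, x * y = y * x} {n : ℕ} {x : K} : x ∈ omg X hab n ↔ x ∈ X ∧ x ^ n = 1 :=
  Iff.rfl

omit [Finite K] in
theorem Inv.omg (h : Inv R X) (hab : ∀ x ∈ X, ∀ y ∈ X, x * y = y * x) (n : ℕ) : Inv R (omg X hab n) :=
  fun α hα x hx => ⟨h α hα x hx.1, by rw [← map_pow, hx.2, map_one]⟩

theorem Ctx.fit_ne (h : Ctx R) : fit R ≠ ⊥ := fun hb => h.ne (eq_bot_iff.2 fun y hy => by
  rw [← hb]
  refine mem_fit_of_cent h.sol hy fun f hf => ?_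
  rw [hb, mem_bot] at hf
  rw [hf, mul_one, one_mul])

/-- an element which centralizes the Fitting subgroup lies in it -/
theorem Ctx.mem_fit (h : Ctx R) {z : K} (hz : ∀ f ∈ fit R, z * f = f * z) : z ∈ fit R :=
  mem_fit_of_cent h.sol (h.cent h.fit_ne (fit_le R) (inv_fit R) hz) hz

omit [Finite K] in
theorem Ctx.solv_of_le (h : Ctx R) (hle : X ≤ R) : Group.IsSolvable X :=
  have := h.sol
  Group.isSolvable_of_isSolvable_injective (f := inclusion hle) (inclusion_injective _)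

theorem le_core {p : ℕ} (hp : p.Prime) (hXR : X ≤ R) (hX : IsPGroup p X) (hn : ∀ s ∈ R, ∀ x ∈ X, s * x * s⁻¹ ∈ X) :
    X ≤ core p R := by
  intro x hx
  have := Fact.mk hp
  have h1 : (X.subgroupOf R).Normal := ⟨fun x hx s => mem_subgroupOf.2 (hn s s.2 x (mem_subgroupOf.1 hx))⟩
  have h2 : Group.IsNilpotent (X.subgroupOf R) := (hX.comap_subtype (K := R)).isNilpotent
  obtain ⟨k, hk⟩ := hX ⟨x, hx⟩
  exact SporB.mem_core_pow ⟨⟨x, hXR hx⟩, Lib.Cores.le_fittingSubgroup h1 h2 (mem_subgroupOf.2 hx), rfl⟩ hp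
    (congrArg Subtype.val hk)

theorem hc_le {c : K} {k m : ℕ} (hk : meet ⊤ R c ≤ k) (hm : Nat.card (centralizer ({c} : Set K)) ≤ m) :
    hc R c ≤ k * m := by
  rw [← hits_top, hits_eq, top_inf_eq, mul_comm]
  exact Nat.mul_le_mul hk hm

/-- `OddOK` from integer weights -/
theorem oddOK_of (P : Finset K) (hP : ∀ v ∈ fit R, v ≠ 1 → ∃ s ∈ P, s ∈ zpowers v) (k m : K → ℕ)
    (hk : ∀ c ∈ P, meet ⊤ R c ≤ k c) (hm : ∀ c ∈ P, Nat.card (centralizer ({c} : Set K)) ≤ m c)
    (hsum : ∑ c ∈ P, k c * m c + 2 * Nat.card R ^ 2 < Nat.card K) : OddOK R :=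
  ⟨P, hP, lt_of_le_of_lt (Nat.add_le_add_right (Finset.sum_le_sum fun c h => hc_le (hk c h) (hm c h)) _) hsum⟩

/-- crude form: `g` generators, `|R| ≤ n`, `k` conjugates, centralizers of order at most `m` -/
theorem oddOK_crude {P : Finset K} (hP : Gens (fit R) P) {g n k m : ℕ} (hg : P.card ≤ g) (hn : Nat.card R ≤ n)
    (hk : ∀ c ∈ fit R, (orderOf c).Prime → meet ⊤ R c ≤ k)
    (hm : ∀ c ∈ fit R, (orderOf c).Prime → Nat.card (centralizer ({c} : Set K)) ≤ m)
    (h : g * (k * m) + 2 * n ^ 2 < Nat.card K) : OddOK R := by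
  refine oddOK_of P hP.cover (fun _ => k) (fun _ => m) (fun c h => hk c (hP.mem c h).1 (hP.mem c h).2)
    (fun c h => hm c (hP.mem c h).1 (hP.mem c h).2) (lt_of_le_of_lt ?_ h)
  rw [Finset.sum_const, smul_eq_mul]
  exact Nat.add_le_add (Nat.mul_le_mul_right _ hg) (Nat.mul_le_mul_left _ (Nat.pow_le_pow_left hn 2))

section tr

variable [IsSimpleGroup K]

theorem ctx_comap (hK : ¬ IsMulCommutative K) {S : Subgroup (MulAut K)} (hS : Group.IsSolvable S)
    (hm : MaxInv (InnG K) S) : Ctx (S.comap (MulAut.conj : K →* MulAut K)) := by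
  have hfin : Finite (MulAut K) := Finite.of_injective (fun α : MulAut K => (α : K → K)) DFunLike.coe_injective
  have hT := as_inn hK
  have hi := conj_injective hK
  refine ⟨comap_solvable hK hS, fun hb => hm.inf_ne_bot hT hS (by rw [← map_comap_conj, hb, Subgroup.map_bot]), ?_⟩
  intro X h0 hle hX g hg
  have hle' : X.map MulAut.conj ≤ S := map_le_iff_le_comap.2 hle
  refine hm.mem_of_normalizes hT (X := X.map MulAut.conj) (fun e => h0 ((map_eq_bot_iff_of_injective X hi).1 e))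
    (fun e => hT.not_le hS (e.trans hle')) ?_ ⟨g, rfl⟩ ?_
  · rintro s hs _ ⟨y, hy, rfl⟩
    refine ⟨s y, hX s (fun r hr => ?_) y hy, (R1.conj_conj s y).symm⟩
    rw [mem_comap, ← R1.conj_conj]
    exact mul_mem (mul_mem hs hr) (inv_mem hs)
  · rintro _ ⟨y, hy, rfl⟩
    exact ⟨_, hg y hy, by rw [map_mul, map_mul, map_inv]⟩

omit [Finite K] in
theorem hits_conj_le (S : Subgroup (MulAut K)) (hK : ¬ IsMulCommutative K) (S' : Subgroup (MulAut K)) (h : S' ≤ S)
    [Finite K] (u : K) : hits (InnG K) S' (MulAut.conj u) ≤ hc (S.comap MulAut.conj) u := by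
  have hi := conj_injective hK
  choose f hf using fun x : InnG K => x.2
  refine Nat.card_le_card_of_injective (fun x => ⟨f x.1, ?_⟩) fun a b e => Subtype.ext (Subtype.ext ?_)
  · rw [mem_comap, map_mul, map_mul, map_inv, hf]
    exact h x.2
  · rw [← hf a.1, ← hf b.1, show f a.1 = f b.1 from congrArg Subtype.val e]

theorem good_of_two (hK : ¬ IsMulCommutative K) (ho : Nat.card (Out K) ≤ 2) {S : Subgroup (MulAut K)}
    (h : TwoOK (S.comap (MulAut.conj : K →* MulAut K))) : Seven (InnG K) S := by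
  have hfin : Finite (MulAut K) := Finite.of_injective (fun α : MulAut K => (α : K → K)) DFunLike.coe_injective
  have hinj := conj_injective hK
  obtain ⟨⟨x, -, y, -, z, -, h1⟩, h2, h3⟩ := h
  have hcT : Nat.card (InnG K) = Nat.card K := (Nat.card_congr (innEquiv hK).toEquiv).symm
  refine seven_of_inner (as_inn hK) ?_ ?_ ?_ ?_
  · intro a _ b _ ha hb
    have hn := innG_normal K
    have hi : (InnG K).index ≤ 2 := ho
    have hi0 : (InnG K).index ≠ 0 := index_ne_zero_of_finite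
    have hi1 : (InnG K).index ≠ 1 := fun e => ha (index_eq_one.1 e ▸ mem_top a)
    have hi2 : (InnG K).index = 2 := by omega
    rw [mul_mem_iff_of_index_two hi2, inv_mem_iff]
    exact iff_of_false ha hb
  · refine ⟨_, ⟨x, rfl⟩, _, ⟨y, rfl⟩, _, ⟨z, rfl⟩, ?_⟩
    rintro _ ⟨hs, s, rfl⟩ a b c
    rw [h1 s hs (by simpa only [mem_comap, _root_.map_mul, _root_.map_inv, _root_.Subgroup.coe_toSubmonoid, _root_.SetLike.mem_coe] using a.1) (by simpa only [mem_comap, _root_.map_mul, _root_.map_inv, _root_.Subgroup.coe_toSubmonoid, _root_.SetLike.mem_coe] using b.1) (by simpa only [mem_comap, _root_.map_mul, _root_.map_inv, _root_.Subgroup.coe_toSubmonoid, _root_.SetLike.mem_coe] using c.1),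
      map_one]
  · rintro _ ⟨u, rfl⟩ hu
    rw [hcT]
    exact le_trans (Nat.mul_le_mul_left _ (hits_conj_le S hK _ inf_le_left u)) (h2 u fun e => hu (by rw [e, map_one]))
  · rw [hcT, ← map_comap_conj, card_map_of_injective hinj]
    exact h3

theorem mem_fit_comap (hK : ¬ IsMulCommutative K) {S : Subgroup (MulAut K)} {k : K} {p : ℕ} (hp : p.Prime)
    (hk : MulAut.conj k ∈ core p S) : k ∈ fit (S.comap (MulAut.conj : K →* MulAut K)) := by
  have hfin : Finite (MulAut K) := Finite.of_injective (fun α : MulAut K => (α : K → K)) DFunLike.coe_injective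
  have := Fact.mk hp
  refine core_le_fit p (le_core hp (X := (core p S).comap MulAut.conj) (comap_mono (map_subtype_le _))
    ((core_pgroup p).comap_of_injective _ (conj_injective hK)) (fun s hs x hx => ?_) hk)
  rw [mem_comap, map_mul, map_mul, map_inv]
  exact core_conj (S := S) p _ hs _ hx

theorem good_of_odd (hK : ¬ IsMulCommutative K) (ho : Nat.card (Out K) ≤ 2) {S : Subgroup (MulAut K)}
    (hm : MaxInv (InnG K) S) (h2 : ∀ c ∈ fit (S.comap (MulAut.conj : K →* MulAut K)), orderOf c ≠ 2)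
    (h : OddOK (S.comap (MulAut.conj : K →* MulAut K))) : FitReg (InnG K) S := by
  classical
  have hfin : Finite (MulAut K) := Finite.of_injective (fun α : MulAut K => (α : K → K)) DFunLike.coe_injective
  have hinj := conj_injective hK
  have hT := as_inn hK
  have hn := innG_normal K
  obtain ⟨P, hP, hsum⟩ := h
  set R := S.comap (MulAut.conj : K →* MulAut K) with hR
  have hcT : Nat.card (InnG K) = Nat.card K := (Nat.card_congr (innEquiv hK).toEquiv).symm
  have hcR : Nat.card ↥(S ⊓ InnG K) = Nat.card R := by rw [← map_comap_conj, card_map_of_injective hinj]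
  have hcS : Nat.card S ≤ 2 * Nat.card R := by
    have h1 := card_eq_mul_relIndex (inf_le_left : S ⊓ InnG K ≤ S)
    rw [inf_relIndex_left, hcR] at h1
    rw [← h1, mul_comm]
    exact Nat.mul_le_mul_right _ ((relIndex_inn_le S).trans ho)
  have hidx : ∀ a b : MulAut K, a ∉ InnG K → b ∉ InnG K → a * b⁻¹ ∈ InnG K := by
    intro a b ha hb
    have hi : (InnG K).index ≤ 2 := ho
    have hi0 : (InnG K).index ≠ 0 := index_ne_zero_of_finite
    have hi1 : (InnG K).index ≠ 1 := fun e => ha (index_eq_one.1 e ▸ mem_top a)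
    have hi2 : (InnG K).index = 2 := by omega
    rw [mul_mem_iff_of_index_two hi2, inv_mem_iff]
    exact iff_of_false ha hb
  have hQ : ∀ a ∈ core 2 S, a ∈ InnG K → a = 1 := by
    rintro _ ha ⟨k, rfl⟩
    by_contra h1
    obtain ⟨s, hs, hp⟩ := exists_prime_order_zpowers (v := k) fun e => h1 (by rw [e, map_one])
    have h3 : MulAut.conj s ∈ core 2 S := by
      obtain ⟨j, rfl⟩ := mem_zpowers_iff.1 hs
      rw [map_zpow]
      exact zpow_mem ha j
    have := Fact.mk Nat.prime_two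
    obtain ⟨j, hj⟩ := IsPGroup.iff_orderOf.1 (core_pgroup (S := S) 2) ⟨_, h3⟩
    rw [Subgroup.orderOf_mk, orderOf_injective _ hinj] at hj
    exact h2 s (mem_fit_comap hK Nat.prime_two h3)
      ((Nat.prime_dvd_prime_iff_eq hp Nat.prime_two).1 (hp.dvd_of_dvd_pow hj.dvd))
  let O := (primeElts (fit S)).filter (· ∉ InnG K)
  have hO : ∀ t ∈ O, t ∈ core 2 S ∧ t ∉ InnG K := by
    intro t ht
    obtain ⟨h3, h4⟩ := Finset.mem_filter.1 ht
    obtain ⟨h5, h6⟩ := mem_primeElts.1 h3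
    refine ⟨mem_core h5 Nat.prime_two ?_, h4⟩
    by_contra h7
    obtain ⟨j, hj⟩ := h6.odd_of_ne_two h7
    have h8 : t * t ∈ InnG K := by simpa only [_root_.MonoidHom.mem_range, _root_.inv_inv] using hidx t t⁻¹ h4 (by rwa [inv_mem_iff])
    have h9 := pow_orderOf_eq_one t
    rw [hj, pow_succ, pow_mul, pow_two] at h9
    exact h4 (by rw [eq_inv_of_mul_eq_one_right h9]; exact inv_mem (pow_mem h8 j))
  have hO1 : O.card ≤ 1 := Finset.card_le_one.2 fun a ha b hb => mul_inv_eq_one.1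
    (hQ _ (mul_mem (hO a ha).1 (inv_mem (hO b hb).1)) (hidx a b (hO a ha).2 (hO b hb).2))
  have hO2 : ∀ t ∈ O, hits (InnG K) S t ≤ 2 * Nat.card R ^ 2 := by
    intro t ht
    obtain ⟨h3, h4⟩ := hO t ht
    have h5 : ∀ s ∈ S, s * t * s⁻¹ = t := fun s hs => mul_inv_eq_one.1
      (hQ _ (mul_mem (core_conj 2 s hs t h3) (inv_mem h3)) (hidx _ _ (fun h => h4 (by
        simpa only [mul_assoc, _root_.MonoidHom.mem_range, _root_.inv_mul_cancel_left, _root_.inv_inv, _root_.inv_mul_cancel, _root_.mul_one] using hn.conj_mem _ h s⁻¹)) h4))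
    have h6 : InnG K ⊓ centralizer {t} ≤ S ⊓ InnG K := by
      refine le_inf (hm.le_of_inv hT inf_le_left (fun e => ?_) fun s hs y hy => ⟨hn.conj_mem _ hy.1 s, ?_⟩) inf_le_left
      · have h7 : t ∈ centralizer (InnG K : Set (MulAut K)) := mem_centralizer_iff.2 fun y hy =>
          mem_centralizer_singleton_iff.1 (e.ge hy).2
        rw [hT.cent, mem_bot] at h7
        exact h4 (h7 ▸ one_mem _)
      · refine mem_centralizer_singleton_iff.2 ?_
        have h7 := mem_centralizer_singleton_iff.1 hy.2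
        calc s * y * s⁻¹ * t = s * (y * (s⁻¹ * t * s⁻¹⁻¹)) * s⁻¹ := by group
          _ = s * (t * y) * s⁻¹ := by rw [h5 _ (inv_mem hs), h7]
          _ = s * t * s⁻¹ * (s * y * s⁻¹) := by group
          _ = _ := by rw [h5 s hs]
    rw [hits_eq, pow_two, ← mul_assoc, mul_comm]
    exact Nat.mul_le_mul ((meet_le_card _ _ t).trans hcS) ((card_le_of_le h6).trans hcR.le)
  refine fitReg_iff.2 (exists_good (P.image MulAut.conj ∪ O) (fun v hv hv1 => ?_) ?_)
  · obtain ⟨s, hs, hp⟩ := exists_prime_order_zpowers hv1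
    have h3 : s ∈ fit S := zpowers_le.2 hv hs
    by_cases h4 : s ∈ InnG K
    · obtain ⟨k, rfl⟩ := h4
      obtain ⟨c, h5, h6⟩ := hP k (mem_fit_comap hK hp (mem_core h3 hp rfl)) fun e => by
        rw [e, map_one, orderOf_one] at hp
        exact Nat.not_prime_one hp
      refine ⟨_, Finset.mem_union_left _ (Finset.mem_image_of_mem _ h5), zpowers_le.2 hs ?_⟩
      obtain ⟨j, rfl⟩ := mem_zpowers_iff.1 h6
      rw [map_zpow]
      exact zpow_mem (mem_zpowers _) j
    · exact ⟨s, Finset.mem_union_right _ (Finset.mem_filter.2 ⟨mem_primeElts.2 ⟨h3, hp⟩, h4⟩), hs⟩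
  · rw [hcT]
    refine lt_of_le_of_lt ?_ hsum
    refine le_trans (le_trans (Nat.le_add_right _ _) (Finset.sum_union_inter).le) (Nat.add_le_add ?_ ?_)
    · rw [Finset.sum_image fun a _ b _ e => hinj e]
      exact Finset.sum_le_sum fun c _ => hits_conj_le S hK S le_rfl c
    · refine (Finset.sum_le_card_nsmul _ _ _ hO2).trans ?_
      rw [smul_eq_mul]
      exact (Nat.mul_le_mul_right _ hO1).trans (one_mul _).le

/-- **The translation.** -/
theorem row_of_ctx (hK : ¬ IsMulCommutative K) (ho : Nat.card (Out K) ≤ 2)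
    (h2 : ∀ R : Subgroup K, Ctx R → (∃ c ∈ fit R, orderOf c = 2) → TwoOK R)
    (h1 : ∀ R : Subgroup K, Ctx R → (∀ c ∈ fit R, orderOf c ≠ 2) → OddOK R ∨ TwoOK R) : Row K := by
  intro S hS hm
  have hc := ctx_comap hK hS hm
  by_cases h : ∃ c ∈ fit (S.comap (MulAut.conj : K →* MulAut K)), orderOf c = 2
  · exact Or.inr (good_of_two hK ho (h2 _ hc h))
  · push Not at h
    rcases h1 _ hc h with h3 | h3
    · exact Or.inl (good_of_odd hK ho hm h h3)
    · exact Or.inr (good_of_two hK ho h3)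

end tr

end Cfsg.Agent.SB.SporD
end

-- part: SB/SporD/HN0
section
/-!
# S5765, the row `HN`: interface (helper26)

Boxes: `BoxC5`, `BoxCW` (centralizers of elements of order five), `BoxF5`, `BoxF3` (Fitting subgroup of odd order),
`BoxTwo` (Fitting subgroup of even order); `row_of_boxes`.
-/

set_option autoImplicit false

namespace Cfsg.Agent.SB.SporD.HN

open Subgroup Cfsg Cfsg.Agent.H786.FC Cfsg.Agent.SB.Mon Cfsg.Agent.SB.Spor
open Cfsg.Agent.H651.HNF (raw cn)

/-- the group -/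
abbrev G : Type := Cfsg.Spor.HN

theorem cardG : Nat.card G = 273030912000000 := raw.card

theorem finG : Finite G := Nat.finite_of_card_ne_zero (by rw [cardG]; norm_num)

theorem ncG : ¬ IsMulCommutative G := by
  intro hc
  have : IsSimpleGroup G := S1701.result.1
  have h1 : (Nat.card G).Prime := by
    let _ : CommGroup G := { (inferInstance : Group G) with mul_comm := hc.is_comm.comm }
    exact IsSimpleGroup.prime_card
  rw [cardG] at h1
  exact absurd (h1.eq_one_or_self_of_dvd 2 (by norm_num)) (by norm_num)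

/-- centralizers of elements of order five -/
def BoxC5 : Prop := ∀ x : G, orderOf x = 5 → cn x ≤ 630000

/-- the centralizer of a 5-central element -/
def BoxCW : Prop := ∀ x : G, orderOf x = 5 → 5 ^ 6 ∣ cn x → cn x ∣ 500000

/-- `F(R) = O₅(R)` -/
def BoxF5 : Prop := ∀ R : Subgroup G, Ctx R → IsPGroup 5 (fit R) → OddOK R

/-- `O₃(R) ≠ 1`, `F(R) = O₃(R) × O₅(R)` -/
def BoxF3 : Prop := ∀ R : Subgroup G, Ctx R → (∃ c ∈ fit R, orderOf c = 3) →
  (∀ c ∈ fit R, (orderOf c).Prime → orderOf c = 3 ∨ orderOf c = 5) → OddOK R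

/-- `O₂(R) ≠ 1` -/
def BoxTwo : Prop := ∀ R : Subgroup G, Ctx R → (∃ c ∈ fit R, orderOf c = 2) → TwoOK R

theorem prime_dvd {p : ℕ} (hp : p.Prime) (h : p ∣ 273030912000000) :
    p = 2 ∨ p = 3 ∨ p = 5 ∨ p = 7 ∨ p = 11 ∨ p = 19 := by
  have e : 273030912000000 = 2 ^ 14 * (3 ^ 6 * (5 ^ 6 * (7 ^ 1 * (11 ^ 1 * 19 ^ 1)))) := by norm_num
  have k : ∀ {q n : ℕ}, q.Prime → p ∣ q ^ n → p = q := fun hq h =>
    (Nat.prime_dvd_prime_iff_eq hp hq).1 (hp.dvd_of_dvd_pow h)
  rw [e] at h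
  simp only [hp.dvd_mul] at h
  rcases h with h | h | h | h | h | h
  · exact Or.inl (k (by norm_num) h)
  · exact Or.inr (Or.inl (k (by norm_num) h))
  · exact Or.inr (Or.inr (Or.inl (k (by norm_num) h)))
  · exact Or.inr (Or.inr (Or.inr (Or.inl (k (by norm_num) h))))
  · exact Or.inr (Or.inr (Or.inr (Or.inr (Or.inl (k (by norm_num) h)))))
  · exact Or.inr (Or.inr (Or.inr (Or.inr (Or.inr (k (by norm_num) h)))))

theorem order_cases {c : G} (hp : (orderOf c).Prime) :
    orderOf c = 2 ∨ orderOf c = 3 ∨ orderOf c = 5 ∨ orderOf c = 7 ∨ orderOf c = 11 ∨ orderOf c = 19 :=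
  prime_dvd hp (cardG ▸ _root_.orderOf_dvd_natCard c)

theorem cn_three {c : G} (h : orderOf c = 3) : cn c ≤ 544320 := by
  rcases raw.r3 c h with h | h <;> omega

theorem cn_odd (h5 : BoxC5) {c : G} (hp : (orderOf c).Prime) (h2 : orderOf c ≠ 2) : cn c ≤ 630000 := by
  rcases order_cases hp with h | h | h | h | h | h
  · exact absurd h h2
  · exact (cn_three h).trans (by norm_num)
  · exact h5 c h
  · rw [raw.r7 c h]; norm_num
  · rw [raw.r11 c h]; norm_num
  · rw [raw.r19 c h]; norm_num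

theorem odd_big (h5 : BoxC5) {R : Subgroup G} (h2 : ∀ c ∈ fit R, orderOf c ≠ 2) {c : G} (hc : c ∈ fit R)
    (hp : (orderOf c).Prime) (h7 : 7 ≤ orderOf c) : OddOK R := by
  have := finG
  have fp : Fact (orderOf c).Prime := ⟨hp⟩
  have hc1 := mem_core hc hp rfl
  obtain ⟨k, hk⟩ := IsPGroup.iff_card.1 (core_pgroup (S := R) (orderOf c))
  have h1 := card_subgroup_dvd_card (core (orderOf c) R)
  rw [cardG, hk] at h1
  have key : ∀ {q : ℕ}, orderOf c = q → ¬ q ^ 2 ∣ 273030912000000 → q * cn c ≤ 2940 → Nat.card R ≤ 2940 := by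
    intro q e h6 h8
    refine (card_le_of_conj (Z := core (orderOf c) R) (y := c) fun s hs => core_conj _ s hs c hc1).trans
      (le_trans (Nat.mul_le_mul ?_ (card_le_of_le inf_le_right)) h8)
    rw [hk]
    rw [e] at h1 h7 ⊢
    refine le_trans (Nat.pow_le_pow_right (by omega) ?_) (pow_one q).le
    by_contra hcon
    exact h6 ((pow_dvd_pow q (by omega)).trans h1)
  have hR : Nat.card R ≤ 2940 := by
    rcases order_cases hp with h | h | h | h | h | h
    · omega
    · omega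
    · omega
    · exact key h (by norm_num) (by rw [raw.r7 c h])
    · exact key h (by norm_num) (by rw [raw.r11 c h]; norm_num)
    · exact key h (by norm_num) (by rw [raw.r19 c h]; norm_num)
  refine oddOK_of (primeElts (fit R)) (primeElts_cover _) (fun _ => 2940) (fun _ => 630000)
    (fun d _ => (meet_le_card _ _ d).trans hR)
    (fun d hd => cn_odd h5 (mem_primeElts.1 hd).2 (h2 d (mem_primeElts.1 hd).1)) ?_
  have h3 := (card_primeElts_lt (fit R)).le.trans ((card_le_of_le (fit_le R)).trans hR)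
  rw [Finset.sum_const, smul_eq_mul, cardG]
  have h4 := Nat.pow_le_pow_left hR 2
  omega

theorem row_of_boxes (h5 : BoxC5) (hF5 : BoxF5) (hF3 : BoxF3) (hT : BoxTwo) (K : Type*) [Group K]
    (h : Cfsg.Spor.IsoHN K) : Row K := by
  obtain ⟨e⟩ := h
  refine Row.of_equiv e ?_
  have := finG
  have : IsSimpleGroup G := S1701.result.1
  refine row_of_ctx ncG S2082.result.le hT fun R hR h2 => Or.inl ?_
  by_cases h7 : ∃ c ∈ fit R, (orderOf c).Prime ∧ 7 ≤ orderOf c
  · obtain ⟨c, hc, hp, h7⟩ := h7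
    exact odd_big h5 h2 hc hp h7
  have h35 : ∀ c ∈ fit R, (orderOf c).Prime → orderOf c = 3 ∨ orderOf c = 5 := by
    intro c hc hp
    have h8 : ¬ 7 ≤ orderOf c := fun h => h7 ⟨c, hc, hp, h⟩
    have h9 := h2 c hc
    have := order_cases hp
    omega
  by_cases h3 : ∃ c ∈ fit R, orderOf c = 3
  · exact hF3 R hR h3 h35
  · have f5 : Fact (Nat.Prime 5) := ⟨by norm_num⟩
    refine hF5 R hR (IsPGroup.iff_card.2 ⟨_, Nat.eq_prime_pow_of_unique_prime_dvd Nat.card_pos.ne'
      fun {q} hq hd => ?_⟩)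
    have : Fact q.Prime := ⟨hq⟩
    obtain ⟨y, hy⟩ := exists_prime_orderOf_dvd_card' _ hd
    have hy' : orderOf (y : G) = q := by rw [Subgroup.orderOf_coe, hy]
    rcases h35 y y.2 (hy' ▸ hq) with h1 | h1
    · exact absurd ⟨y, y.2, h1⟩ h3
    · exact hy' ▸ h1

end Cfsg.Agent.SB.SporD.HN
end

-- part: SB/SporD/HNF5a
section
/-!
# S5765, the row `HN`: the Sylow 5-subgroups (helper8)

`Syl S z` : `S` has order `5 ^ 6`, `z` is central of order five, and an element outside of `⟨z⟩` has a non-trivial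
commutator in `⟨z⟩` or a centralizer of order at most `125` in `S`.  `card_ab` : abelian 5-subgroups.
-/

set_option autoImplicit false

namespace Cfsg.Agent.SB.SporD.HN.F5

open Subgroup Cfsg Cfsg.Agent.H786.FC Cfsg.Agent.SB.Mon Cfsg.Agent.H839.Rad.Ext
open Cfsg.Agent.H981.InvHN (P isPGroup_P index_P Q_le_P F_mem_P F_not pow_form zpow_eq nf_mod nf_eq exists_code nv d0
  d1 d2 d3 F5 Fz_Q)
open Cfsg.Agent.H839.Rad.HN (W A B C₁ D F ext FW e_w5)
open Cfsg.Agent.H793.Cyc.FiveHN (stepF)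

theorem nf_inj {i j u l m i' j' u' l' m' : ℤ} (h : nf W A B C₁ D i j u l m = nf W A B C₁ D i' j' u' l' m') :
    (5 : ℤ) ∣ i - i' ∧ (5 : ℤ) ∣ j - j' ∧ (5 : ℤ) ∣ u - u' ∧ (5 : ℤ) ∣ l - l' := by
  have h1 := congrArg (· * nf W A B C₁ D (-i') (-j') (-u') (-l') 0) h
  simp only [ext.nf_mul, add_neg_cancel] at h1
  have key : ∀ r s t v : ℤ, ((5 : ℕ) : ℤ) ∣ (i + -i') * s - r * (j + -j') + (u + -u') * v - t * (l + -l') := by
    intro r s t v
    refine (ext.comm_iff (m := m + 0 - -i' * j - -u' * l) (m' := 0)).1 ?_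
    rw [h1]
    exact ext.comm_iff.2 (by simp)
  have k1 := key 0 1 0 0
  have k2 := key 1 0 0 0
  have k3 := key 0 0 0 1
  have k4 := key 0 0 1 0
  push_cast at k1 k2 k3 k4
  omega

/-- the elements of `Q` commuting with `q F` -/
theorem cent_Q {q y : G} (hq : q ∈ ext.Q) (hy : y ∈ ext.Q) (h : y * (q * F) = q * F * y) :
    ∃ l m : Fin 5, y = nf W A B C₁ D (4 * (l : ℕ)) (4 * (l : ℕ)) 0 (l : ℕ) (m : ℕ) := by
  have h1 : q⁻¹ * y * q⁻¹⁻¹ * y⁻¹ ∈ zpowers W := ext.commutator_mem _ (inv_mem hq) y hy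
  obtain ⟨n, hn⟩ := mem_zpowers_iff.1 h1
  have h2 : F * y * F⁻¹ = W ^ n * y := by
    rw [hn]
    calc F * y * F⁻¹ = q⁻¹ * (q * F * y) * F⁻¹ := by group
      _ = _ := by rw [← h]; group
  obtain ⟨i, j, u, l, m, rfl⟩ := hy
  obtain ⟨v, -, he⟩ := exists_code i j u l m
  rw [he] at h2 ⊢
  unfold nv at h2 ⊢
  generalize d0 v = a at *
  generalize d1 v = b at *
  generalize d2 v = c at *
  generalize d3 v = d at *
  obtain ⟨m', h3⟩ := stepF a b c d m
  have h4 : W ^ n = nf W A B C₁ D 0 0 0 0 n := by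
    show _ = A ^ (0 : ℤ) * B ^ (0 : ℤ) * C₁ ^ (0 : ℤ) * D ^ (0 : ℤ) * W ^ n
    rw [zpow_zero, zpow_zero, zpow_zero, zpow_zero, one_mul, one_mul, one_mul, one_mul]
  rw [h3, h4, ext.nf_mul] at h2
  obtain ⟨k1, k2, k3, k4⟩ := nf_inj h2
  push_cast at k1 k2 k3 k4
  refine ⟨⟨d % 5, Nat.mod_lt _ (by norm_num)⟩, ⟨(m % 5).toNat, by omega⟩, ?_⟩
  have h5 : nf W A B C₁ D a b c d m = nf W A B C₁ D (4 * (d % 5 : ℕ)) (4 * (d % 5 : ℕ)) 0 (d % 5 : ℕ) m :=
    nf_mod (by push_cast; omega) (by push_cast; omega) (by omega) (by push_cast; omega)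
  rw [h5]
  exact congrArg (A ^ _ * B ^ _ * C₁ ^ _ * D ^ _ * ·) (zpow_eq e_w5 (i := m) (j := ((m % 5).toNat : ℕ)) (by omega))

theorem cent_out {w : G} (hw : w ∈ P) (hq : w ∉ ext.Q) : Nat.card ↥(P ⊓ centralizer {w}) ≤ 125 := by
  obtain ⟨q, hq0, s, rfl⟩ := hw
  have h5 : ¬ (5 : ℤ) ∣ s := fun h5 => hq (by
    rw [zpow_eq F5 (i := s) (j := 0) (by simpa using h5), zpow_zero, mul_one]
    exact hq0)
  obtain ⟨t, ht⟩ : ∃ t : ℕ, (5 : ℤ) ∣ s * t - 1 := by
    have h4 : s % 5 = 1 ∨ s % 5 = 2 ∨ s % 5 = 3 ∨ s % 5 = 4 := by omega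
    rcases h4 with h | h | h | h
    · exact ⟨1, by push_cast; omega⟩
    · exact ⟨3, by push_cast; omega⟩
    · exact ⟨2, by push_cast; omega⟩
    · exact ⟨4, by push_cast; omega⟩
  obtain ⟨q', hq', he⟩ := pow_form hq0 s t
  rw [zpow_eq F5 (i := s * t) (j := 1) ht, zpow_one] at he
  let f : Fin 5 × Fin 5 × Fin 5 → G := fun v =>
    nf W A B C₁ D (4 * (v.1 : ℕ)) (4 * (v.1 : ℕ)) 0 (v.1 : ℕ) (v.2.1 : ℕ) * (q' * F) ^ (v.2.2 : ℕ)
  have hs : ((P ⊓ centralizer {q * F ^ s} : Subgroup G) : Set G) ⊆ f '' Set.univ := by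
    rintro _ ⟨⟨y, hy, a, rfl⟩, hc⟩
    have h1 : Commute (y * F ^ a) (q' * F) := by
      rw [← he]
      exact (show Commute (y * F ^ a) (q * F ^ s) from mem_centralizer_singleton_iff.1 hc).pow_right t
    obtain ⟨r, hr, h2⟩ := pow_form hq' 1 (a % 5).toNat
    rw [zpow_one, one_mul, ← zpow_eq F5 (i := a) (by omega)] at h2
    have h3 : y * F ^ a = y * r⁻¹ * (q' * F) ^ (a % 5).toNat := by rw [h2]; group
    have h4 : Commute (y * r⁻¹) (q' * F) := by
      have h6 : y * r⁻¹ = y * F ^ a * ((q' * F) ^ (a % 5).toNat)⁻¹ := by rw [h3]; group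
      rw [h6]
      exact h1.mul_left ((Commute.refl _).pow_left _).inv_left
    obtain ⟨l, m, h6⟩ := cent_Q hq' (mul_mem hy (inv_mem hr)) h4.eq
    exact ⟨(l, m, ⟨(a % 5).toNat, by omega⟩), Set.mem_univ _, by rw [h3, h6]⟩
  rw [← SetLike.coe_sort_coe, Nat.card_coe_set_eq]
  refine (Set.ncard_le_ncard hs (Set.finite_univ.image f)).trans ((Set.ncard_image_le Set.finite_univ).trans ?_)
  rw [Set.ncard_univ, Nat.card_prod, Nat.card_prod, Nat.card_fin]

theorem pow_le {X : Subgroup G} {n : ℕ} (h : Nat.card X = 5 ^ n) : n ≤ 6 := by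
  have h1 := card_subgroup_dvd_card X
  rw [h, cardG] at h1
  by_contra h2
  exact absurd ((pow_dvd_pow 5 (show 7 ≤ n by omega)).trans h1) (by norm_num)

theorem card_P : Nat.card P = 5 ^ 6 := by
  have := finG
  have f5 : Fact (Nat.Prime 5) := ⟨by norm_num⟩
  obtain ⟨n, hn⟩ := IsPGroup.iff_card.1 isPGroup_P
  have h1 := pow_le hn
  have h2 : 5 ^ 6 ∣ Nat.card P * P.index := by rw [P.card_mul_index, cardG]; norm_num
  have h3 := (Nat.Coprime.pow_left 6 ((Nat.Prime.coprime_iff_not_dvd f5.out).2 index_P)).dvd_of_dvd_mul_right h2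
  rw [hn] at h3 ⊢
  rw [le_antisymm h1 ((Nat.pow_dvd_pow_iff_le_right (by norm_num)).1 h3)]

theorem card_Q : Nat.card ext.Q ≤ 5 ^ 5 := by
  have := finG
  have f5 : Fact (Nat.Prime 5) := ⟨by norm_num⟩
  obtain ⟨n, hn⟩ := IsPGroup.iff_card.1 (ext.isPGroup (by decide))
  have h2 : Nat.card ↥ext.Q < Nat.card ↥P :=
    Set.ncard_lt_ncard (lt_of_le_of_ne Q_le_P fun h => F_not (h ▸ F_mem_P) : ext.Q < P) (Set.toFinite _)
  rw [card_P, hn] at h2
  rw [hn]
  exact Nat.pow_le_pow_right (by norm_num) (Nat.lt_succ_iff.1 ((Nat.pow_lt_pow_iff_right (by norm_num)).1 h2))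

theorem exists_conj {X : Subgroup G} (hX : IsPGroup 5 X) : ∃ g : G, ∀ x ∈ X, g * x * g⁻¹ ∈ P := by
  have := finG
  have f5 : Fact (Nat.Prime 5) := ⟨by norm_num⟩
  obtain ⟨R, hR⟩ := hX.exists_le_sylow
  obtain ⟨g, hg⟩ := MulAction.exists_smul_eq G R (isPGroup_P.toSylow index_P)
  have h2 : (R : Subgroup G).map (MulAut.conj g).toMonoidHom = P :=
    congrArg (fun S : Sylow 5 G => (S : Subgroup G)) hg
  exact ⟨g, fun x hx => h2 ▸ ⟨x, hR hx, rfl⟩⟩

/-- abelian 5-subgroups -/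
theorem card_ab {X : Subgroup G} (hX : IsPGroup 5 X) (hab : ∀ x ∈ X, ∀ y ∈ X, x * y = y * x) : Nat.card X ≤ 125 := by
  have := finG
  obtain ⟨g, hg⟩ := exists_conj hX
  rw [← card_map_of_injective (f := (MulAut.conj g).toMonoidHom) (MulAut.conj g).injective]
  generalize hY : X.map (MulAut.conj g).toMonoidHom = Y
  have h1 : Y ≤ P := by
    rw [← hY]
    rintro _ ⟨r, hr, rfl⟩
    exact hg r hr
  have h2 : ∀ x ∈ Y, ∀ y ∈ Y, x * y = y * x := by
    rw [← hY]
    rintro _ ⟨x, hx, rfl⟩ _ ⟨y, hy, rfl⟩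
    rw [← map_mul, hab x hx y hy, map_mul]
  by_cases h : Y ≤ ext.Q
  · have h3 := card_mul_le (by norm_num : Nat.Prime 5) ext.hw ext.comm_w ext.commutator_mem
      (fun s hs h => ext.center hs h) h h h2
    have h4 : Nat.card Y * Nat.card Y ≤ 125 * 125 := h3.trans (Nat.mul_le_mul_left 5 card_Q)
    exact Nat.mul_self_le_mul_self_iff.1 h4
  · obtain ⟨w, hw, hq⟩ := SetLike.not_le_iff_exists.1 h
    exact (card_le_of_le fun y hy => mem_inf.2 ⟨h1 hy, mem_centralizer_singleton_iff.2 (h2 y hy w hw)⟩).trans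
      (cent_out (h1 hw) hq)

/-- a Sylow 5-subgroup with a generator of its centre -/
structure Syl (S : Subgroup G) (z : G) : Prop where
  card : Nat.card S = 5 ^ 6
  oz : orderOf z = 5
  cz : ∀ s ∈ S, s * z = z * s
  alt : ∀ w ∈ S, w ∉ zpowers z →
    (∃ x ∈ S, ∃ j : ℤ, ¬ ((5 : ℕ) : ℤ) ∣ j ∧ x * w * x⁻¹ = w * z ^ j) ∨ Nat.card ↥(S ⊓ centralizer {w}) ≤ 125

theorem syl_P : Syl P W where
  card := card_P
  oz := ext.hw
  cz := by
    rintro _ ⟨q, hq, s, rfl⟩
    exact ((show Commute q W from ext.comm_w q hq).mul_left ((show Commute F W from FW).zpow_left s)).eq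
  alt := by
    intro w hw hz
    by_cases hq : w ∈ ext.Q
    · left
      obtain ⟨x, h1⟩ := not_forall.1 fun h : ∀ y ∈ ext.Q, w * y = y * w => hz (ext.center hq h)
      obtain ⟨hx, h2⟩ := Classical.not_imp.1 h1
      obtain ⟨j, hj⟩ := mem_zpowers_iff.1 (ext.commutator_mem x hx w hq)
      have h3 : x * w * x⁻¹ = w * W ^ j := by
        rw [((show Commute w W from ext.comm_w w hq).zpow_right j).eq, hj]
        group
      refine ⟨x, Q_le_P hx, j, fun h => h2 ?_, h3⟩
      rw [zpow_eq e_w5 (i := j) (j := 0) (by simpa using h), zpow_zero, mul_one, mul_inv_eq_iff_eq_mul] at h3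
      exact h3.symm
    · exact Or.inr (cent_out hw hq)

theorem Syl.map {S : Subgroup G} {z : G} (h : Syl S z) (e : G ≃* G) : Syl (S.map e.toMonoidHom) (e z) where
  card := by rw [card_map_of_injective e.injective, h.card]
  oz := by rw [e.orderOf_eq, h.oz]
  cz := by
    rintro _ ⟨s, hs, rfl⟩
    exact ((show Commute s z from h.cz s hs).map e).eq
  alt := by
    rintro _ ⟨w, hw, rfl⟩ hz
    have := finG
    rcases h.alt w hw (fun h1 => hz (by
      obtain ⟨j, rfl⟩ := mem_zpowers_iff.1 h1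
      exact mem_zpowers_iff.2 ⟨j, (map_zpow e z j).symm⟩)) with ⟨x, hx, j, hj, h1⟩ | h1
    · exact Or.inl ⟨e x, ⟨x, hx, rfl⟩, j, hj, by simpa only [_root_.MulEquiv.toMonoidHom_eq_coe, _root_.MonoidHom.coe_coe, _root_.map_mul, _root_.map_inv, _root_.map_zpow] using congrArg e h1⟩
    · refine Or.inr (le_trans ?_ h1)
      rw [← card_map_of_injective (f := e.toMonoidHom) (K := S ⊓ centralizer {w}) e.injective]
      refine card_le_of_le ?_
      rintro _ ⟨⟨s, hs, rfl⟩, hc⟩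
      refine ⟨s, ⟨hs, mem_centralizer_singleton_iff.2 (e.injective ?_)⟩, rfl⟩
      rw [map_mul, map_mul]
      exact mem_centralizer_singleton_iff.1 hc

theorem exists_syl {X : Subgroup G} (hX : IsPGroup 5 X) : ∃ S z, Syl S z ∧ X ≤ S := by
  obtain ⟨g, hg⟩ := exists_conj hX
  exact ⟨_, _, syl_P.map (MulAut.conj g⁻¹), fun x hx => ⟨_, hg x hx, by simp only [mul_assoc, _root_.map_inv, _root_.MulEquiv.toMonoidHom_eq_coe, _root_.MonoidHom.coe_coe, _root_.MulAut.inv_apply, _root_.MulAut.conj_symm_apply, _root_.inv_mul_cancel_left, _root_.inv_mul_cancel, _root_.mul_one]⟩⟩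

end Cfsg.Agent.SB.SporD.HN.F5
end
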